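import Mathlib
import Cfsg.Agent.H19.Fitting
import Cfsg.Agent.H19.Cores
import Cfsg.Agent.H21.Complement
import Cfsg.Agent.H21.UniqueSubgroup
import Cfsg.Agent.H21.ThompsonFpfCore
import Cfsg.Agent.H22.PResidual
import Cfsg.Agent.H23.QuaternionAut

/-!
# Solvable groups with `(q - 1) p^a` elements whose `p'`-elements act fixed-point-freely

Such a group, acting on an elementary abelian group of order `q` and with trivial `p`-core, has a
normal `p`-complement and commutative Sylow `p`-subgroups.
-/

set_option autoImplicit false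

namespace Cfsg.Agent.H20.TransFpf

open QuaternionGroup

theorem center_q8_card : Nat.card (Subgroup.center (QuaternionGroup 2)) = 2 := by
  classical
  rw [Nat.card_eq_fintype_card, Fintype.card_subtype]
  rw [show (Finset.univ.filter fun x : QuaternionGroup 2 => x ∈ Subgroup.center _) =
    Finset.univ.filter fun x : QuaternionGroup 2 => ∀ y, y * x = x * y by
      ext x; simp [Subgroup.mem_center_iff]]
  decide +kernel

theorem inner_q8_card : Nat.card (MulAut.conj : QuaternionGroup 2 →* _).range = 4 := by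
  have h := (MulAut.conj : QuaternionGroup 2 →* _).ker.card_eq_card_quotient_mul_card_subgroup
  rw [Nat.card_congr (QuotientGroup.quotientKerEquivRange _).toEquiv] at h
  have hk : (MulAut.conj : QuaternionGroup 2 →* _).ker = Subgroup.center _ := by
    ext x
    rw [MonoidHom.mem_ker, Subgroup.mem_center_iff, MulEquiv.ext_iff]
    simp only [MulAut.conj_apply, MulAut.one_apply, mul_inv_eq_iff_eq_mul]
    exact forall_congr' fun y => eq_comm
  rw [hk, center_q8_card, Nat.card_eq_fintype_card (α := QuaternionGroup 2),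
    QuaternionGroup.card] at h
  omega

theorem card_mulAut_q8_le : Nat.card (MulAut (QuaternionGroup 2)) ≤ 24 := by
  classical
  let S := {uv : QuaternionGroup 2 × QuaternionGroup 2 //
    uv.1 * uv.1 = a 2 ∧ uv.2 * uv.2 = a 2 ∧ uv.1 ≠ uv.2 ∧ uv.1 * uv.2 ≠ 1}
  have hS : Nat.card S = 24 := by
    rw [Nat.card_eq_fintype_card]
    decide +kernel
  have hfix : ∀ α : MulAut (QuaternionGroup 2), α (a 2) = a 2 := by
    intro α
    have huniq : ∀ y : QuaternionGroup 2, y * y = 1 → y ≠ 1 → y = a 2 := by decide +kernel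
    refine huniq _ ?_ ?_
    · rw [← map_mul]
      exact (congrArg α (by decide +kernel : (a 2 : QuaternionGroup 2) * a 2 = 1)).trans (map_one α)
    · exact fun h => (by decide +kernel : (a 2 : QuaternionGroup 2) ≠ 1)
        (α.injective (h.trans (map_one α).symm))
  let g : MulAut (QuaternionGroup 2) → S := fun α =>
    ⟨(α (a 1), α (xa 0)), by
      show α (a 1) * α (a 1) = a 2
      rw [← map_mul]
      exact (congrArg α (by decide +kernel : (a 1 : QuaternionGroup 2) * a 1 = a 2)).trans (hfix α),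
     by
      show α (xa 0) * α (xa 0) = a 2
      rw [← map_mul]
      exact (congrArg α (by decide +kernel : (xa 0 : QuaternionGroup 2) * xa 0 = a 2)).trans (hfix α),
     fun h => (by decide +kernel : (a 1 : QuaternionGroup 2) ≠ xa 0) (α.injective h),
     fun h => (by decide +kernel : (a 1 : QuaternionGroup 2) * xa 0 ≠ 1)
      (α.injective ((map_mul α _ _).trans (h.trans (map_one α).symm)))⟩
  refine hS ▸ Nat.card_le_card_of_injective g fun α β h => MulEquiv.ext fun x => ?_
  have h' := congrArg Subtype.val h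
  simp only [g, Prod.mk.injEq] at h'
  rw [H23.q8Map_eq α, H23.q8Map_eq β, h'.1, h'.2]

theorem q8_aut_pow_twelve (α : MulAut (QuaternionGroup 2)) : α ^ 12 = 1 := by
  have hmul : ∀ x y, H23.q8Map (α (a 1)) (α (xa 0)) (x * y) =
      H23.q8Map (α (a 1)) (α (xa 0)) x * H23.q8Map (α (a 1)) (α (xa 0)) y := fun x y => by
    rw [← H23.q8Map_eq α, ← H23.q8Map_eq α, ← H23.q8Map_eq α, map_mul]
  have hinj : ∀ x y, H23.q8Map (α (a 1)) (α (xa 0)) x = H23.q8Map (α (a 1)) (α (xa 0)) y → x = y :=
    fun x y h => by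
      rw [← H23.q8Map_eq α, ← H23.q8Map_eq α] at h
      exact α.injective h
  rcases H23.q8_auto_order _ _ hmul hinj with h | h
  · have h3 : α ^ 3 = 1 := MulEquiv.ext fun x => by
      show α (α (α x)) = x
      refine Eq.trans ?_ (h x)
      rw [← H23.q8Map_eq α, ← H23.q8Map_eq α, ← H23.q8Map_eq α]
    rw [show 12 = 3 * 4 by norm_num, pow_mul, h3, one_pow]
  · have h4 : α ^ 4 = 1 := MulEquiv.ext fun x => by
      show α (α (α (α x))) = x
      refine Eq.trans ?_ (h x)
      rw [← H23.q8Map_eq α, ← H23.q8Map_eq α, ← H23.q8Map_eq α, ← H23.q8Map_eq α]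
    rw [show 12 = 4 * 3 by norm_num, pow_mul, h4, one_pow]

/-- A group acting freely on a finite set has order dividing its cardinality. -/
theorem card_dvd_of_free {S X : Type*} [Group S] [Finite S] [Finite X] [MulAction S X]
    (h : ∀ (s : S) (x : X), s • x = x → s = 1) : Nat.card S ∣ Nat.card X := by
  classical
  haveI := Fintype.ofFinite X
  have h2 : ∀ x : X, Nat.card (MulAction.orbit S x) = Nat.card S := fun x =>
    (Nat.card_congr (Equiv.ofBijective
      (fun s : S => (⟨s • x, MulAction.mem_orbit x s⟩ : MulAction.orbit S x))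
      ⟨fun s t hst => by
        have hst' : s • x = t • x := congrArg Subtype.val hst
        exact (inv_mul_eq_one.mp (h (t⁻¹ * s) x (by rw [mul_smul, hst', inv_smul_smul]))).symm,
       fun y => by obtain ⟨s, hs⟩ := y.2; exact ⟨s, Subtype.ext hs⟩⟩)).symm
  rw [Nat.card_congr (MulAction.selfEquivSigmaOrbits S X), Nat.card_sigma]
  exact Finset.dvd_sum fun ω _ => (h2 _).symm ▸ dvd_rfl

variable {H : Type*} [Group H] [Finite H] {p : ℕ} [hp : Fact p.Prime] {V : Type*} [CommGroup V]
  [Finite V]

/-- The commutator of any two elements centralizes a cyclic normal subgroup. -/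
theorem commutator_mem_centralizer (C : Subgroup H) [C.Normal] [IsCyclic C] (x y : H) :
    x * y * x⁻¹ * y⁻¹ ∈ Subgroup.centralizer (C : Set H) := by
  rw [Subgroup.mem_centralizer_iff]
  intro c hc
  have hcomm : Commute (MulAut.conjNormal x : MulAut C) (MulAut.conjNormal y) := by
    refine (IsCyclic.mulAutMulEquiv C).injective ?_
    rw [map_mul, map_mul, mul_comm]
  have hone : (MulAut.conjNormal (x * y * x⁻¹ * y⁻¹) : MulAut C) = 1 := by
    rw [map_mul, map_mul, map_mul, map_inv, map_inv, hcomm.eq, mul_inv_cancel_right,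
      mul_inv_cancel]
  have h := congrArg Subtype.val (DFunLike.congr_fun hone ⟨c, hc⟩)
  simp only [MulAut.conjNormal_apply, MulAut.one_apply] at h
  exact (mul_inv_eq_iff_eq_mul.mp h).symm

theorem not_dvd_orderOf_of_isPGroup {r : ℕ} [Fact r.Prime] (hrp : r ≠ p) {C : Subgroup H}
    (hC : IsPGroup r C) {x : H} (hx : x ∈ C) : ¬ p ∣ orderOf x := by
  intro hd
  obtain ⟨k, hk⟩ := hC ⟨x, hx⟩
  have h1 := hd.trans (orderOf_dvd_of_pow_eq_one
    (show x ^ r ^ k = 1 by simpa using congrArg Subtype.val hk))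
  exact hrp ((Nat.prime_dvd_prime_iff_eq hp.out Fact.out).mp (hp.out.dvd_of_dvd_pow h1)).symm

/-- The part of the proof excluding the full automorphism group of `Q₈`: the centralizer of the
quaternion subgroup would be semiregular on the square-root of the module. -/
theorem no_full_q8 (ψ : H →* MulAut V) [Nontrivial V] (hexp : ∀ v : V, v ^ 3 = 1)
    (hfpf : ∀ e : H, ¬ 3 ∣ orderOf e → e ≠ 1 → ∀ v : V, ψ e v = v → v = 1)
    (Q : Subgroup H) (e8 : Q ≃* QuaternionGroup 2) {c : ℕ}
    (hcard : Nat.card H = (Nat.card V - 1) * 3 ^ c)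
    (hidx : (Subgroup.centralizer (Q : Set H)).index = 24) : False := by
  classical
  set D := Subgroup.centralizer (Q : Set H) with hD
  haveI : Fact (Nat.Prime 3) := ⟨Nat.prime_three⟩
  let em : QuaternionGroup 2 →* H := Q.subtype.comp e8.symm.toMonoidHom
  have hem : Function.Injective em := Q.subtype_injective.comp e8.symm.injective
  set i := em (a 1) with hi
  set j := em (xa 0) with hj
  set z := em (a 2) with hz
  have hrel : ∀ {x y w : QuaternionGroup 2}, x * y = w → em x * em y = em w := fun h => by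
    rw [← map_mul, h]
  have hii : i * i = z := hrel (by decide +kernel)
  have hjj : j * j = z := hrel (by decide +kernel)
  have hzz : z * z = 1 := (hrel (by decide +kernel : (a 2 : QuaternionGroup 2) * a 2 = 1)).trans
    (map_one em)
  have hji : j * i = z * (i * j) := by
    rw [hi, hj, hz, ← map_mul, ← map_mul, ← map_mul]
    congr 1
  have hzi : z * i = i * z := by rw [← hii, mul_assoc]
  have hz1 : z ≠ 1 := fun h => (by decide +kernel : (a 2 : QuaternionGroup 2) ≠ 1)
    (hem (h.trans (map_one em).symm))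
  have htwo : ∀ x : H, x * x = 1 → ¬ 3 ∣ orderOf x := fun x hx h => by
    have := h.trans (orderOf_dvd_of_pow_eq_one (show x ^ 2 = 1 by rw [pow_two, hx]))
    omega
  have hpsiz : ∀ v : V, ψ z v = v⁻¹ := fun v =>
    H21.eq_inv_of_involution ψ hzz (hfpf z (htwo z hzz) hz1) v
  have hzQ : z ∈ Q := (e8.symm (a 2)).2
  have hiQ : i ∈ Q := (e8.symm (a 1)).2
  have hjQ : j ∈ Q := (e8.symm (xa 0)).2
  have hDcomm : ∀ x ∈ D, ∀ y ∈ Q, x * y = y * x := fun x hx y hy =>
    (Subgroup.mem_centralizer_iff.mp hx y hy).symm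
  have hzD : z ∈ D := Subgroup.mem_centralizer_iff.mpr fun y hy => by
    have hc : ∀ w : QuaternionGroup 2, w * a 2 = a 2 * w := by decide +kernel
    have hy' : em (e8 ⟨y, hy⟩) = y := by simp [em]
    rw [← hy', hz, ← map_mul, ← map_mul, hc]
  -- involutions
  have hinv : ∀ x ∈ D, x * x = 1 → x = 1 ∨ x = z := by
    intro x hx hxx
    by_contra hcon
    push Not at hcon
    have hxz : (x * z) * (x * z) = 1 := by
      rw [show x * z * (x * z) = x * (z * x) * z by group, ← hDcomm x hx z hzQ,
        show x * (x * z) * z = (x * x) * (z * z) by group, hxx, hzz, one_mul]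
    have hxz1 : x * z ≠ 1 := fun h => hcon.2 (by
      rw [eq_inv_of_mul_eq_one_left h, inv_eq_of_mul_eq_one_right hzz])
    obtain ⟨v, hv⟩ := exists_ne (1 : V)
    refine hv (hfpf _ (htwo _ hxz) hxz1 v ?_)
    rw [map_mul, MulAut.mul_apply, hpsiz, map_inv,
      H21.eq_inv_of_involution ψ hxx (hfpf x (htwo x hxx) hcon.1) v, inv_inv]
  have hQD : ∀ x ∈ D, x ∈ Q → x = 1 ∨ x = z := by
    intro x hx hxQ
    have hc : ∀ w : QuaternionGroup 2, w * a 1 = a 1 * w → w * xa 0 = xa 0 * w →
        w = 1 ∨ w = a 2 := by decide +kernel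
    have hx' : em (e8 ⟨x, hxQ⟩) = x := by simp [em]
    rcases hc (e8 ⟨x, hxQ⟩) (hem (by rw [map_mul, map_mul, hx']; exact hDcomm x hx i hiQ))
      (hem (by rw [map_mul, map_mul, hx']; exact hDcomm x hx j hjQ)) with h | h
    · exact Or.inl (by rw [← hx', h, map_one])
    · exact Or.inr (by rw [← hx', h])
  have htwoel : ∀ k : ℕ, ∀ x ∈ D, x ^ 2 ^ k = 1 → x = 1 ∨ x = z := by
    intro k
    induction k with
    | zero => intro x _ h; exact Or.inl (by simpa using h)
    | succ k ih =>
      intro x hx h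
      have h' : (x * x) ^ 2 ^ k = 1 := by rw [← pow_two, ← pow_mul, ← pow_succ', h]
      rcases ih _ (D.mul_mem hx hx) h' with h2 | h2
      · exact hinv x hx h2
      · -- `x * i` is an involution
        have hxi : (x * i) * (x * i) = 1 := by
          rw [show x * i * (x * i) = x * (i * x) * i by group, ← hDcomm x hx i hiQ,
            show x * (x * i) * i = (x * x) * (i * i) by group, h2, hii, hzz]
        have hxiD : x * i = 1 ∨ x * i = z := by
          by_contra hcon
          push Not at hcon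
          obtain ⟨v, hv⟩ := exists_ne (1 : V)
          have hxiz : (x * i * z) * (x * i * z) = 1 := by
            rw [show x * i * z * (x * i * z) = x * i * (z * x) * i * z by group,
              ← hDcomm x hx z hzQ, show x * i * (x * z) * i * z = x * i * x * (z * i) * z by group,
              hzi, show x * i * x * (i * z) * z = (x * i * (x * i)) * (z * z) by group, hxi, hzz,
              one_mul]
          have hne : x * i * z ≠ 1 := fun h => hcon.2 (by
            rw [eq_inv_of_mul_eq_one_left h, inv_eq_of_mul_eq_one_right hzz])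
          refine hv (hfpf _ (htwo _ hxiz) hne v ?_)
          rw [map_mul, MulAut.mul_apply, hpsiz, map_inv,
            H21.eq_inv_of_involution ψ hxi (hfpf _ (htwo _ hxi) hcon.1) v, inv_inv]
        refine hQD x hx ?_
        rcases hxiD with h3 | h3
        · rw [eq_inv_of_mul_eq_one_left h3]; exact Q.inv_mem hiQ
        · rw [eq_mul_inv_of_mul_eq h3]; exact Q.mul_mem hzQ (Q.inv_mem hiQ)
  -- `D` has twice odd order
  have h2D : 2 ∣ Nat.card D ∧ ¬ 4 ∣ Nat.card D := by
    refine ⟨?_, fun h => ?_⟩
    · have ho : orderOf z = 2 := orderOf_eq_prime (by rw [pow_two, hzz]) hz1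
      exact ho ▸ D.orderOf_dvd_natCard hzD
    · obtain ⟨T, hT⟩ := Sylow.exists_subgroup_card_pow_prime (G := D) 2 (n := 2) (by simpa using h)
      have hTp : IsPGroup 2 T := IsPGroup.of_card hT
      have hle : Nat.card T ≤ 2 := by
        refine (Nat.card_le_card_of_injective
          (fun t : T => decide (((t : D) : H) = z)) fun s t hst => ?_).trans (by simp)
        have key : ∀ u : T, ((u : D) : H) = 1 ∨ ((u : D) : H) = z := fun u => by
          obtain ⟨k, hk⟩ := hTp u
          exact htwoel k _ (u : D).2 (by simpa using congrArg (fun y : T => ((y : D) : H)) hk)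
        simp only [decide_eq_decide] at hst
        refine Subtype.ext (Subtype.ext ?_)
        rcases key s with hs | hs <;> rcases key t with ht | ht
        · rw [hs, ht]
        · exact absurd ((hst.mpr ht).symm.trans hs) hz1
        · exact absurd ((hst.mp hs).symm.trans ht) hz1
        · rw [hs, ht]
      omega
  -- the endomorphism `A = ψ i + ψ j` squares to one
  let A : V →* V :=
    { toFun := fun v => ψ i v * ψ j v
      map_one' := by simp
      map_mul' := fun u v => by simp only [map_mul]; ac_rfl }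
  have hA : ∀ v, A v = ψ i v * ψ j v := fun _ => rfl
  have hpsi : ∀ (x y : H) (v : V), ψ x (ψ y v) = ψ (x * y) v := fun x y v => by
    rw [map_mul, MulAut.mul_apply]
  have hAA : ∀ v, A (A v) = v := by
    intro v
    have h3 := hexp v
    rw [hA, hA, map_mul, map_mul, hpsi, hpsi, hpsi, hpsi, hii, hjj, hji, ← hpsi z (i * j), hpsiz,
      hpsiz]
    calc v⁻¹ * ψ (i * j) v * ((ψ (i * j) v)⁻¹ * v⁻¹)
        = v⁻¹ * v⁻¹ * v ^ 3 := by rw [h3, mul_one]; group
      _ = v := by group
  set θ : V → V := fun v => ψ (i * j) v with hθ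
  have hAθ : ∀ v, A (θ v) = (θ (A v))⁻¹ := by
    intro v
    have e1 : i * (i * j) = z * j := by rw [← mul_assoc, hii]
    have e2 : j * (i * j) = i := by
      rw [← mul_assoc, hji, mul_assoc, mul_assoc, hjj, ← mul_assoc, hzi, mul_assoc, hzz, mul_one]
    have e3 : i * j * i = j := by
      rw [mul_assoc, hji, ← mul_assoc, ← hzi, mul_assoc, ← mul_assoc i i j, hii, ← mul_assoc, hzz,
        one_mul]
    have e4 : i * j * j = z * i := by rw [mul_assoc, hjj, hzi]
    show ψ i (ψ (i * j) v) * ψ j (ψ (i * j) v) = (ψ (i * j) (ψ i v * ψ j v))⁻¹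
    rw [(ψ (i * j)).map_mul, hpsi, hpsi, hpsi, hpsi, e1, e2, e3, e4, ← hpsi z j, ← hpsi z i, hpsiz,
      hpsiz, mul_inv, inv_inv]
  let W : Subgroup V := A.eqLocus (MonoidHom.id V)
  let W' : Subgroup V := A.eqLocus (MonoidHom.mk' (fun v : V => v⁻¹) fun u v => mul_inv u v)
  have hW : ∀ v, v ∈ W ↔ A v = v := fun _ => Iff.rfl
  have hW' : ∀ v, v ∈ W' ↔ A v = v⁻¹ := fun _ => Iff.rfl
  have hθinj : Function.Injective θ := (ψ (i * j)).injective
  have hWW : Nat.card W = Nat.card W' := by
    refine le_antisymm (Nat.card_le_card_of_injective (fun w => (⟨θ w, (hW' _).mpr (by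
        rw [hAθ, (hW _).mp w.2])⟩ : W')) fun u v h => Subtype.ext (hθinj (congrArg Subtype.val h))) ?_
    exact Nat.card_le_card_of_injective (fun w => (⟨θ w, (hW _).mpr (by
        rw [hAθ, (hW' _).mp w.2]; simp [hθ])⟩ : W))
      fun u v h => Subtype.ext (hθinj (congrArg Subtype.val h))
  have hVW : Nat.card V = Nat.card W * Nat.card W' := by
    rw [← Nat.card_prod]
    have hb : Function.Bijective fun w : W × W' => ((w.1 : V) * (w.2 : V)) := by
      refine ⟨fun u v h => ?_, fun x => ?_⟩
      · have h' : (u.1 : V) * (u.2 : V) = (v.1 : V) * (v.2 : V) := h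
        set d : V := (v.1 : V)⁻¹ * u.1 with hd
        have hd' : d = (v.2 : V) * (u.2 : V)⁻¹ := by
          rw [hd, inv_mul_eq_iff_eq_mul, ← mul_assoc, ← h', mul_inv_cancel_right]
        have hdW : A d = d := (hW _).mp (W.mul_mem (W.inv_mem v.1.2) u.1.2)
        have hdW' : A d = d⁻¹ := (hW' _).mp (hd' ▸ W'.mul_mem v.2.2 (W'.inv_mem u.2.2))
        have hd2 : d * d = 1 := by
          have := hdW.symm.trans hdW'
          exact mul_eq_one_iff_eq_inv.mpr this
        have hd1 : d = 1 := by
          have := hexp d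
          rwa [pow_succ, pow_two, hd2, one_mul] at this
        refine Prod.ext (Subtype.ext (inv_mul_eq_one.mp hd1).symm) (Subtype.ext ?_)
        exact (mul_inv_eq_one.mp (hd'.symm.trans hd1)).symm
      · refine ⟨(⟨(x * A x) ^ 2, W.pow_mem ((hW _).mpr (by rw [map_mul, hAA, mul_comm])) 2⟩,
          ⟨(x * (A x)⁻¹) ^ 2, W'.pow_mem ((hW' _).mpr (by rw [map_mul, map_inv, hAA]; simp [mul_comm])) 2⟩), ?_⟩
        show (x * A x) ^ 2 * (x * (A x)⁻¹) ^ 2 = x
        rw [← mul_pow, mul_mul_mul_comm, mul_inv_cancel, mul_one, ← pow_two, ← pow_mul,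
          show 2 * 2 = 3 + 1 by norm_num, pow_succ, hexp, one_mul]
    exact (Nat.card_eq_of_bijective _ hb).symm
  rw [← hWW] at hVW
  -- arithmetic
  set w := Nat.card W
  have hVp : IsPGroup 3 V := fun v => ⟨1, by simpa using hexp v⟩
  obtain ⟨h, hh⟩ := (hVp.to_subgroup W).exists_card_eq
  have hq : 1 < Nat.card V := Finite.one_lt_card
  have hHD : Nat.card H = Nat.card D * 24 := by rw [← hidx, Subgroup.card_mul_index]
  obtain ⟨d', hd'⟩ := h2D.1
  have hodd : ¬ 2 ∣ d' := fun hh => h2D.2 (by
    rw [hd']; exact mul_dvd_mul (dvd_refl 2) hh)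
  have heq : (Nat.card V - 1) * 3 ^ c = 48 * d' := by rw [← hcard, hHD, hd']; ring
  obtain ⟨m, hm⟩ : 16 ∣ Nat.card V - 1 := by
    refine (Nat.Coprime.pow_right c (by norm_num : Nat.Coprime 16 3)).dvd_of_dvd_mul_right ?_
    rw [heq]; exact Dvd.dvd.mul_right (by norm_num) _
  have hm3 : ¬ 3 ∣ m := by
    intro hd
    have h1 : 3 ∣ Nat.card V - 1 := hm ▸ hd.mul_left _
    have h2 : 3 ∣ Nat.card V := by
      obtain ⟨n, hn⟩ := hVp.exists_card_eq
      rw [hn]
      refine dvd_pow_self 3 ?_
      rintro rfl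
      simp at hn
      omega
    have := Nat.dvd_sub h2 h1
    rw [show Nat.card V - (Nat.card V - 1) = 1 by omega] at this
    omega
  have hmd : m ∣ Nat.card D := by
    have h1 : m ∣ 3 * d' := by
      have : m * 3 ^ c = 3 * d' := by
        rw [hm] at heq
        have h16 : 16 * (m * 3 ^ c) = 16 * (3 * d') := by rw [← mul_assoc, heq]; ring
        omega
      exact this ▸ dvd_mul_right m _
    rw [hd']
    exact ((Nat.prime_three.coprime_iff_not_dvd.mpr hm3).symm.dvd_of_dvd_mul_left h1).mul_left 2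
  have hmw : m ∣ w - 1 := by
    refine (Nat.dvd_iff_prime_pow_dvd_dvd _ _).mpr fun r k hr hrk => ?_
    haveI := Fact.mk hr
    rcases Nat.eq_zero_or_pos k with rfl | hk0
    · simp
    have hr3 : r ≠ 3 := fun h3 => hm3 (h3 ▸ (dvd_pow_self r hk0.ne').trans hrk)
    obtain ⟨S, hS⟩ := Sylow.exists_subgroup_card_pow_prime (G := D) r (hrk.trans hmd)
    have hcom : ∀ (s : D) (v : V), A (ψ (s : H) v) = ψ (s : H) (A v) := by
      intro s v
      rw [hA, hA, (ψ (s : H)).map_mul, hpsi, hpsi, hpsi, hpsi, hDcomm _ s.2 i hiQ, hDcomm _ s.2 j hjQ]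
    let X := {v : W // v ≠ 1}
    letI : MulAction S X :=
      { smul := fun s v => ⟨⟨ψ ((s : D) : H) v.1.1, (hW _).mpr (by
            rw [hcom, (hW _).mp v.1.2])⟩, fun h => v.2 (Subtype.ext
              ((ψ ((s : D) : H)).injective ((congrArg Subtype.val h).trans
                (map_one _).symm)))⟩
        one_smul := fun v => Subtype.ext (Subtype.ext (by
          show ψ (((1 : S) : D) : H) v.1.1 = v.1.1
          simp))
        mul_smul := fun s t v => Subtype.ext (Subtype.ext (by
          show ψ (((s * t : S) : D) : H) v.1.1 = ψ ((s : D) : H) (ψ ((t : D) : H) v.1.1)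
          simp [map_mul])) }
    have hfree : ∀ (s : S) (x : X), s • x = x → s = 1 := by
      intro s x hsx
      by_contra hs
      have hs' : ((s : D) : H) ≠ 1 := fun h => hs (Subtype.ext (Subtype.ext h))
      have hSp : IsPGroup r S := IsPGroup.of_card hS
      obtain ⟨l, hl⟩ := hSp s
      refine x.2 (Subtype.ext (hfpf _ (fun hd => hr3 ?_) hs' x.1.1
        (congrArg (fun u : X => u.1.1) hsx)))
      have h1 := hd.trans (orderOf_dvd_of_pow_eq_one (show ((s : D) : H) ^ r ^ l = 1 by
        simpa using congrArg (fun u : S => ((u : D) : H)) hl))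
      exact ((Nat.prime_dvd_prime_iff_eq Nat.prime_three hr).mp
        (Nat.prime_three.dvd_of_dvd_pow h1)).symm
    have hdv := card_dvd_of_free hfree
    rw [hS] at hdv
    have hX : Nat.card X = w - 1 := by
      haveI := Fintype.ofFinite W
      show Nat.card {v : W // v ≠ 1} = Nat.card W - 1
      rw [Nat.card_eq_fintype_card, Nat.card_eq_fintype_card, Fintype.card_subtype_compl,
        Fintype.card_subtype_eq]
    rwa [hX] at hdv
  obtain ⟨e, he⟩ := hmw
  have hw1 : 1 < w := by
    by_contra hcon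
    interval_cases hw : w <;> simp [hw] at hVW <;> omega
  have hkey : (e * (w + 1)) * m = 16 * m := by
    rw [← hm, hVW, show e * (w + 1) * m = (w + 1) * (m * e) by ring, ← he, ← Nat.sq_sub_sq, one_pow,
      sq]
  have hm0 : 0 < m := by
    rcases Nat.eq_zero_or_pos m with rfl | h0
    · omega
    · exact h0
  have h16 : e * (w + 1) = 16 := Nat.eq_of_mul_eq_mul_right hm0 hkey
  have hle : w + 1 ≤ 16 := Nat.le_of_dvd (by norm_num) ⟨e, by rw [← h16, mul_comm]⟩
  have hdvd16 : w + 1 ∣ 16 := ⟨e, by rw [← h16, mul_comm]⟩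
  have hh3 : h < 3 := by
    by_contra hcon
    have : 3 ^ 3 ≤ 3 ^ h := Nat.pow_le_pow_right (by norm_num) (by omega)
    change w = 3 ^ h at hh
    omega
  change w = 3 ^ h at hh
  interval_cases h <;> norm_num at hh <;> rw [hh] at hVW hdvd16 hw1 <;> omega

/-- **Main structure theorem.** -/
theorem structure_of_transitive [Group.IsSolvable H] (ψ : H →* MulAut V) [Nontrivial V]
    (hexp : ∀ v : V, v ^ p = 1)
    (hfpf : ∀ e : H, ¬ p ∣ orderOf e → e ≠ 1 → ∀ v : V, ψ e v = v → v = 1)
    (hcore : Cfsg.pCore p H = ⊥) {c : ℕ} (hcard : Nat.card H = (Nat.card V - 1) * p ^ c) :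
    Cfsg.HasNormalPComplement p H ∧ ∀ P : Sylow p H, IsMulCommutative (P : Subgroup H) := by
  classical
  set F := Cfsg.fittingSubgroup H with hF
  haveI := H19.fitting_normal H
  have hFp : ¬ p ∣ Nat.card F := by
    haveI := H19.fitting_isNilpotent (G := H)
    intro hd
    obtain ⟨P⟩ : Nonempty (Sylow p F) := inferInstance
    have hPn : (P : Subgroup F).Normal := inferInstance
    haveI := P.characteristic_of_normal hPn
    have hle := H19.le_pCore (ConjAct.normal_of_characteristic_of_normal
      (H := F) (K := (P : Subgroup F))) (P.2.map F.subtype)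
    rw [hcore, le_bot_iff, Subgroup.map_eq_bot_iff_of_injective _ F.subtype_injective] at hle
    exact P.ne_bot_of_dvd_card hd hle
  have hnormal : ∀ r, (Cfsg.pCore r H).Normal := fun r => H19.pCore_normal r H
  -- the cores for odd primes are cyclic
  have huniq : ∀ r : ℕ, r.Prime → r ≠ p → ∀ A B : Subgroup (Cfsg.pCore r H),
      Nat.card A = r → Nat.card B = r → A = B := by
    intro r hr hrp
    haveI := Fact.mk hr
    refine H21.unique_subgroup_of_fpf (H19.pCore_isPGroup r)
      (ψ.comp (Cfsg.pCore r H).subtype) fun e he v hv => ?_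
    exact hfpf e (not_dvd_orderOf_of_isPGroup hrp (H19.pCore_isPGroup r) e.2)
      (by simpa using he) v hv
  have hcyc : ∀ r : ℕ, r.Prime → r ≠ 2 → IsCyclic (Cfsg.pCore r H) := by
    intro r hr h2
    haveI := Fact.mk hr
    rcases eq_or_ne r p with rfl | hrp
    · rw [hcore]; infer_instance
    rcases H21.cyclic_or_quaternion r (H19.pCore_isPGroup r) (huniq r hr hrp) with h | h
    · exact h
    · exact absurd h.1 h2
  set L : Subgroup H := ⨅ r : {r : Nat.Primes // (r : ℕ) ≠ 2},
    Subgroup.centralizer (Cfsg.pCore (r : ℕ) H : Set H) with hL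
  set Q := Cfsg.pCore 2 H with hQdef
  haveI hQn : Q.Normal := hnormal 2
  set D := Subgroup.centralizer (Q : Set H) with hD
  haveI hDn : D.Normal := by rw [hD]; infer_instance
  haveI hLn : L.Normal := Subgroup.normal_iInf_normal fun r => by
    haveI := hnormal (r : ℕ); infer_instance
  have hcommL : ∀ x y : H, x * y * x⁻¹ * y⁻¹ ∈ L := fun x y => by
    rw [hL, Subgroup.mem_iInf]
    intro r
    haveI := hnormal (r : ℕ)
    haveI := hcyc r r.1.2 r.2
    exact commutator_mem_centralizer _ x y
  have hLD : L ⊓ D ≤ F := by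
    intro x hx
    refine H19.centralizer_fitting_le (G := H) (Subgroup.mem_centralizer_iff.mpr ?_)
    have hle : F ≤ Subgroup.centralizer ({x} : Set H) := by
      rw [hF, H19.fitting_eq_iSup_pCore]
      refine iSup_le fun r y hy => Subgroup.mem_centralizer_singleton_iff.mpr ?_
      by_cases h2 : (r : ℕ) = 2
      · exact Subgroup.mem_centralizer_iff.mp hx.2 y (by rw [hQdef, ← h2]; exact hy)
      · exact Subgroup.mem_centralizer_iff.mp
          ((Subgroup.mem_iInf.mp hx.1) ⟨r, h2⟩) y hy
    exact fun y hy => Subgroup.mem_centralizer_singleton_iff.mp (hle hy)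
  have hsmall : ∀ x ∈ L ⊓ D, ∀ k, x ^ p ^ k = 1 → x = 1 := by
    intro x hx k hk
    by_contra hx1
    have h1 := (Subgroup.orderOf_dvd_natCard F (hLD hx))
    obtain ⟨l, -, hl⟩ := (Nat.dvd_prime_pow hp.out).mp (orderOf_dvd_of_pow_eq_one hk)
    rcases Nat.eq_zero_or_pos l with rfl | hl0
    · exact hx1 (orderOf_eq_one_iff.mp (by simpa using hl))
    · exact hFp ((dvd_pow_self p hl0.ne').trans (hl ▸ h1))
  let f : H →* MulAut Q := MulAut.conjNormal
  have hker : ∀ x, f x = 1 ↔ x ∈ D := by
    intro x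
    rw [Subgroup.mem_centralizer_iff, MulEquiv.ext_iff]
    refine ⟨fun h y hy => ?_, fun h y => Subtype.ext ?_⟩
    · have := congrArg Subtype.val (h ⟨y, hy⟩)
      simp only [f, MulAut.conjNormal_apply, MulAut.one_apply] at this
      exact (mul_inv_eq_iff_eq_mul.mp this).symm
    · simp only [f, MulAut.conjNormal_apply, MulAut.one_apply]
      rw [← h y y.2, mul_inv_cancel_right]
  -- what is needed from the action on `Q`
  suffices key : (∀ x ∈ Cfsg.pResidual p H, orderOf x = p → f x = 1) ∧
      ∀ P : Sylow p H, ∀ x ∈ (P : Subgroup H), ∀ y ∈ (P : Subgroup H), f x * f y = f y * f x by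
    refine ⟨H22.hasNormalPComplement_iff.mpr fun hd => ?_, fun P => ⟨⟨fun u v => ?_⟩⟩⟩
    · obtain ⟨⟨x, hxR⟩, hx⟩ := exists_prime_orderOf_dvd_card' (G := Cfsg.pResidual p H) p hd
      rw [← Subgroup.orderOf_coe] at hx
      simp only at hx
      have hxL : x ∈ L := by
        letI : CommGroup (H ⧸ L) :=
          { (inferInstance : Group (H ⧸ L)) with
            mul_comm := fun a b => by
              induction a using QuotientGroup.induction_on with
              | H a =>
              induction b using QuotientGroup.induction_on with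
              | H b =>
              show ((a * b : H) : H ⧸ L) = ((b * a : H) : H ⧸ L)
              rw [QuotientGroup.eq]
              have := hcommL b⁻¹ a⁻¹
              simpa [mul_assoc] using this }
        have hnc : ¬ p ∣ Nat.card (Cfsg.pResidual p (H ⧸ L)) :=
          H22.hasNormalPComplement_iff.mp (H21.hasNormalPComplement_of_nilpotent p)
        rw [← QuotientGroup.eq_one_iff]
        by_contra hne
        have hmem : (x : H ⧸ L) ∈ Cfsg.pResidual p (H ⧸ L) :=
          H22.map_pResidual_le (QuotientGroup.mk' L) ⟨x, hxR, rfl⟩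
        have ho : orderOf (x : H ⧸ L) = p := orderOf_eq_prime
          (by rw [← QuotientGroup.mk_pow, ← hx, pow_orderOf_eq_one, QuotientGroup.mk_one]) hne
        exact hnc (by have := Subgroup.orderOf_dvd_natCard _ hmem; rwa [ho] at this)
      have h1 : x = 1 := hsmall x ⟨hxL, (hker x).mp (key.1 x hxR hx)⟩ 1
        (by rw [pow_one, ← hx, pow_orderOf_eq_one])
      rw [h1, orderOf_one] at hx
      exact hp.out.ne_one hx.symm
    · refine Subtype.ext ?_
      have hcD : (u : H) * v * (u : H)⁻¹ * (v : H)⁻¹ ∈ D := by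
        rw [← hker, map_mul, map_mul, map_mul, map_inv, map_inv, key.2 P u u.2 v v.2,
          mul_inv_cancel_right, mul_inv_cancel]
      obtain ⟨k, hk⟩ := P.2 (u * v * u⁻¹ * v⁻¹)
      have := hsmall _ ⟨hcommL u v, hcD⟩ k (by simpa using congrArg Subtype.val hk)
      exact mul_inv_eq_iff_eq_mul.mp (mul_inv_eq_one.mp this)
  have hQp : p = 2 → Q = ⊥ := fun h => by rw [hQdef, ← h, hcore]
  by_cases hact : ∀ x : H, Odd (orderOf x) → f x = 1
  · -- the image is a `2`-group
    have h2 : ∀ x : H, ∀ k, x ^ p ^ k = 1 → f x = 1 := by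
      intro x k hk
      rcases eq_or_ne p 2 with h | h
      · refine (hker x).mpr ?_
        rw [hD, hQp h, Subgroup.mem_centralizer_iff]
        intro y hy
        rw [Subgroup.coe_bot, Set.mem_singleton_iff] at hy
        rw [hy, one_mul, mul_one]
      · exact hact x (((hp.out.odd_of_ne_two h).pow (n := k)).of_dvd_nat
          (orderOf_dvd_of_pow_eq_one hk))
    refine ⟨fun x _ hx => h2 x 1 (by rw [pow_one, ← hx, pow_orderOf_eq_one]), fun P x hx y hy => ?_⟩
    obtain ⟨k, hk⟩ := P.2 ⟨x, hx⟩
    obtain ⟨l, hl⟩ := P.2 ⟨y, hy⟩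
    rw [h2 x k (by simpa using congrArg Subtype.val hk),
      h2 y l (by simpa using congrArg Subtype.val hl)]
  -- otherwise `Q` is quaternion of order eight
  simp only [not_forall] at hact
  obtain ⟨g, hgodd, hg⟩ := hact
  have hp2 : p ≠ 2 := by
    intro h
    refine hg ((hker g).mpr ?_)
    rw [hD, hQp h, Subgroup.mem_centralizer_iff]
    intro y hy
    rw [Subgroup.coe_bot, Set.mem_singleton_iff] at hy
    rw [hy, one_mul, mul_one]
  obtain ⟨e8⟩ : Nonempty (Q ≃* QuaternionGroup 2) := by
    rcases H21.cyclic_or_quaternion 2 (H19.pCore_isPGroup 2)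
      (huniq 2 Nat.prime_two hp2.symm) with h | ⟨-, n, ⟨e⟩⟩
    · exact absurd (H23.mulAut_eq_one_of_isCyclic (H19.pCore_isPGroup 2) (f g) hgodd
        (by rw [← map_pow, pow_orderOf_eq_one, map_one])) hg
    · let et := MulAut.congr (e.trans Subgroup.topEquiv.symm)
      obtain ⟨e'⟩ := H23.q8_of_odd_auto (⊤ : Subgroup (QuaternionGroup (2 ^ n))) (et (f g)) hgodd
        (by rw [← map_pow, ← map_pow, pow_orderOf_eq_one, map_one, map_one])
        (fun h => hg (et.injective (h.trans (map_one et).symm)))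
      exact ⟨(e.trans Subgroup.topEquiv.symm).trans e'.symm⟩
  let f8 : H →* MulAut (QuaternionGroup 2) := (MulAut.congr e8).toMonoidHom.comp f
  have hf8 : ∀ x, f8 x = 1 ↔ f x = 1 := fun x => by
    show MulAut.congr e8 (f x) = 1 ↔ _
    exact (MulAut.congr e8).map_eq_one_iff
  have hinner : Q.map f8 = (MulAut.conj : QuaternionGroup 2 →* _).range := by
    have hval : ∀ y : Q, f8 y = MulAut.conj (e8 y) := by
      intro y
      refine MulEquiv.ext fun w => ?_
      show e8 (MulAut.conjNormal (y : H) (e8.symm w)) = e8 y * w * (e8 y)⁻¹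
      rw [show MulAut.conjNormal (y : H) (e8.symm w) = y * e8.symm w * y⁻¹ from Subtype.ext (by simp),
        map_mul, map_mul, map_inv, MulEquiv.apply_symm_apply]
    refine le_antisymm ?_ ?_
    · rintro _ ⟨y, hy, rfl⟩
      exact ⟨e8 ⟨y, hy⟩, (hval ⟨y, hy⟩).symm⟩
    · rintro _ ⟨w, rfl⟩
      exact ⟨e8.symm w, (e8.symm w).2, by rw [hval, MulEquiv.apply_symm_apply]⟩
  set T := f8.range with hT
  have hle : Nat.card T ≤ 24 := (Subgroup.card_le_card_group T).trans card_mulAut_q8_le
  have hprimes : ∀ r, r.Prime → r ∣ Nat.card T → r = 2 ∨ r = 3 := by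
    intro r hr hd
    haveI := Fact.mk hr
    obtain ⟨x, hx⟩ := exists_prime_orderOf_dvd_card' (G := T) r hd
    have h12 : r ∣ 2 ^ 2 * 3 := by
      rw [← hx, ← Subgroup.orderOf_coe]
      exact orderOf_dvd_of_pow_eq_one (q8_aut_pow_twelve _)
    rcases (Nat.Prime.dvd_mul hr).mp h12 with h | h
    · exact Or.inl ((Nat.prime_dvd_prime_iff_eq hr Nat.prime_two).mp (hr.dvd_of_dvd_pow h))
    · exact Or.inr ((Nat.prime_dvd_prime_iff_eq hr Nat.prime_three).mp h)
  have hker8 : f8.ker = D := by
    ext x
    rw [MonoidHom.mem_ker, hf8, hker]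
  by_cases hpT : p ∣ Nat.card T
  swap
  · have h2 : ∀ x : H, ∀ k, x ^ p ^ k = 1 → f x = 1 := by
      intro x k hk
      rw [← hf8]
      by_contra hne
      obtain ⟨l, -, hl⟩ := (Nat.dvd_prime_pow hp.out).mp
        (orderOf_dvd_of_pow_eq_one (show (f8 x) ^ p ^ k = 1 by rw [← map_pow, hk, map_one]))
      rcases Nat.eq_zero_or_pos l with rfl | hl0
      · exact hne (orderOf_eq_one_iff.mp (by simpa using hl))
      · exact hpT ((dvd_pow_self p hl0.ne').trans
          (hl ▸ Subgroup.orderOf_dvd_natCard T ⟨x, rfl⟩))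
    refine ⟨fun x _ hx => h2 x 1 (by rw [pow_one, ← hx, pow_orderOf_eq_one]), fun P x hx y hy => ?_⟩
    obtain ⟨k, hk⟩ := P.2 ⟨x, hx⟩
    obtain ⟨l, hl⟩ := P.2 ⟨y, hy⟩
    rw [h2 x k (by simpa using congrArg Subtype.val hk),
      h2 y l (by simpa using congrArg Subtype.val hl)]
  obtain rfl : p = 3 := (hprimes p hp.out hpT).resolve_left hp2
  have h4 : 4 ∣ Nat.card T := by
    rw [← inner_q8_card, ← hinner]
    exact Subgroup.card_dvd_of_le (Subgroup.map_le_range f8 Q)
  have hidxD : D.index = Nat.card T := by rw [← hker8, Subgroup.index_ker]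
  -- the image has order twelve
  have hT12 : Nat.card T = 12 := by
    have h12 : 12 ∣ Nat.card T := Nat.Coprime.mul_dvd_of_dvd_of_dvd (by norm_num : Nat.Coprime 4 3) h4 hpT
    obtain ⟨k, hk⟩ := h12
    have : k = 1 ∨ k = 2 := by
      have := Nat.card_pos (α := T)
      omega
    rcases this with rfl | rfl
    · exact hk
    · exfalso
      exact no_full_q8 ψ hexp hfpf Q e8 hcard (by rw [← hD, hidxD, hk])
  refine ⟨fun x hxR hx => ?_, fun P x hx y hy => ?_⟩
  · rw [← hf8]
    set K := (Q.map f8).comap f8 with hK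
    have hKe : K = Q ⊔ D := by rw [hK, Subgroup.comap_map_eq, hker8]
    haveI : K.Normal := hKe ▸ Subgroup.sup_normal Q D
    have hKidx : K.index = 3 ^ 1 := by
      have h1 : (Q.map f8).relIndex T = 3 := by
        have h2 := Subgroup.card_mul_index ((Q.map f8).subgroupOf T)
        rw [Nat.card_congr (Subgroup.subgroupOfEquivOfLe (Subgroup.map_le_range f8 Q)).toEquiv,
          hinner, inner_q8_card, ← hinner, hT12] at h2
        show ((Q.map f8).subgroupOf T).index = 3
        omega
      rw [hK, Subgroup.index_comap, h1, pow_one]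
    have hxK : f8 x ∈ Q.map f8 :=
      Subgroup.mem_comap.mp (H22.pResidual_le_of_index_eq K hKidx hxR)
    rw [hinner] at hxK
    have h1 : orderOf (f8 x) ∣ 4 := inner_q8_card ▸ Subgroup.orderOf_dvd_natCard _ hxK
    have h2 : orderOf (f8 x) ∣ 3 := by
      rw [← hx]; exact orderOf_map_dvd f8 x
    exact orderOf_eq_one_iff.mp (Nat.eq_one_of_dvd_coprimes (by norm_num) h1 h2)
  · have hinj : Function.Injective (MulAut.congr e8) := (MulAut.congr e8).injective
    refine hinj ?_
    rw [map_mul, map_mul]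
    show f8 x * f8 y = f8 y * f8 x
    set PT := (P : Subgroup H).map f8
    have hd : Nat.card PT ∣ 12 := hT12 ▸ Subgroup.card_dvd_of_le (Subgroup.map_le_range f8 _)
    obtain ⟨l, hl⟩ := (P.2.map f8).exists_card_eq
    haveI : IsCyclic PT := by
      rcases Nat.lt_or_ge l 2 with hl2 | hl2
      · interval_cases l
        · haveI : Subsingleton PT := (Nat.card_eq_one_iff_unique.mp (by rw [hl, pow_zero])).1
          infer_instance
        · exact isCyclic_of_prime_card (p := 3) (by rw [hl, pow_one])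
      · exfalso
        have : 3 ^ 2 ∣ 12 := ((pow_dvd_pow 3 hl2).trans (hl ▸ dvd_rfl)).trans hd
        omega
    letI := IsCyclic.commGroup (α := PT)
    exact congrArg Subtype.val (mul_comm (⟨f8 x, x, hx, rfl⟩ : PT) ⟨f8 y, y, hy, rfl⟩)

end Cfsg.Agent.H20.TransFpf
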